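import Groth.Agent.HopfFFLib.Nilradical
import Mathlib

/-!
# Functions constant on the fibres of a dominant map of varieties
-/

set_option autoImplicit false

universe u

open scoped TensorProduct

namespace FibreConstLib

/-- An element of a finitely generated domain in characteristic zero which takes equal values at rational points
with the same image is a fraction of elements from below. -/
theorem exists_fraction (k : Type u) [Field k] [IsAlgClosed k] [CharZero k] (A B : Type u) [CommRing A] [IsDomain A]
    [CommRing B] [IsDomain B] [Algebra k A] [Algebra k B] [Algebra A B] [IsScalarTower k A B]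
    [Algebra.FiniteType k B] (hinj : Function.Injective (algebraMap A B)) (s : B)
    (hs : ∀ a₁ a₂ : B →ₐ[k] k, (∀ a, a₁ (algebraMap A B a) = a₂ (algebraMap A B a)) → a₁ s = a₂ s) :
    ∃ a c : A, c ≠ 0 ∧ algebraMap A B a = algebraMap A B c * s := by
  haveI : Algebra.FiniteType A B := Algebra.FiniteType.of_restrictScalars_finiteType k A B
  haveI : Algebra.FiniteType k (B ⊗[A] B) :=
    Algebra.FiniteType.trans (R := k) (S := B) (A := B ⊗[A] B) inferInstance inferInstance
  haveI : IsJacobsonRing (B ⊗[A] B) := isJacobsonRing_of_finiteType (A := k)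
  let t : B ⊗[A] B := s ⊗ₜ 1 - 1 ⊗ₜ s
  have ht : IsNilpotent t := by
    have hrad : (⊥ : Ideal (B ⊗[A] B)).radical.jacobson = (⊥ : Ideal (B ⊗[A] B)).radical :=
      IsJacobsonRing.out' _ (Ideal.radical_isRadical _)
    have hmem : t ∈ (⊥ : Ideal (B ⊗[A] B)).radical := by
      rw [← hrad, Ideal.jacobson, Submodule.mem_sInf]
      rintro m ⟨-, hm⟩
      haveI := hm
      letI : Field ((B ⊗[A] B) ⧸ m) := Ideal.Quotient.field m
      haveI : Module.Finite k ((B ⊗[A] B) ⧸ m) := finite_of_finite_type_of_isJacobsonRing k _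
      have hbij : Function.Bijective (algebraMap k ((B ⊗[A] B) ⧸ m)) := IsAlgClosed.algebraMap_bijective_of_isIntegral
      let ψ : (B ⊗[A] B) →ₐ[k] k :=
        (AlgEquiv.ofBijective (Algebra.ofId k _) hbij).symm.toAlgHom.comp (Ideal.Quotient.mkₐ k m)
      have h := hs (ψ.comp ((Algebra.TensorProduct.includeLeft : B →ₐ[A] B ⊗[A] B).restrictScalars k))
        (ψ.comp ((Algebra.TensorProduct.includeRight : B →ₐ[A] B ⊗[A] B).restrictScalars k)) fun a => by
          show ψ (algebraMap A B a ⊗ₜ 1) = ψ (1 ⊗ₜ algebraMap A B a)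
          rw [← Algebra.TensorProduct.algebraMap_apply (R := A) (S := A) (A := B) (B := B), Algebra.TensorProduct.algebraMap_apply']
      have h0 : ψ t = 0 := by
        show ψ (s ⊗ₜ 1 - 1 ⊗ₜ s) = 0
        rw [map_sub, sub_eq_zero]
        exact h
      rw [← Ideal.Quotient.eq_zero_iff_mem]
      exact (EmbeddingLike.map_eq_zero_iff (f := (AlgEquiv.ofBijective (Algebra.ofId k _) hbij).symm)).1 h0
    exact (Ideal.mem_radical_iff.1 hmem).imp fun n hn => by simpa using hn
  let K := FractionRing A
  let L := FractionRing B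
  have hinj' : Function.Injective (algebraMap A L) := by
    rw [IsScalarTower.algebraMap_eq A B L]
    exact (IsFractionRing.injective B L).comp hinj
  letI : Algebra K L := (IsFractionRing.lift hinj').toAlgebra
  haveI : IsScalarTower A K L := IsScalarTower.of_algebraMap_eq fun a => (IsFractionRing.lift_algebraMap hinj' a).symm
  haveI : CharZero K := by
    haveI : CharZero A := charZero_of_injective_algebraMap (algebraMap k A).injective
    infer_instance
  haveI : IsReduced (L ⊗[K] L) := Groth.Agent.HopfFF.isReduced_tensor_fields K L L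
  let μ : B ⊗[A] B →ₐ[A] L ⊗[K] L := Algebra.TensorProduct.lift
    (((Algebra.TensorProduct.includeLeft : L →ₐ[K] L ⊗[K] L).restrictScalars A).comp (IsScalarTower.toAlgHom A B L))
    (((Algebra.TensorProduct.includeRight : L →ₐ[K] L ⊗[K] L).restrictScalars A).comp (IsScalarTower.toAlgHom A B L))
    fun _ _ => Commute.all _ _
  let σ := algebraMap B L s
  have hσ : (σ ⊗ₜ[K] (1 : L) : L ⊗[K] L) = (1 : L) ⊗ₜ σ := by
    have h : μ t = 0 := (ht.map μ).eq_zero
    simpa [μ, t, σ, sub_eq_zero] using h
  obtain ⟨ℓ, hℓ⟩ : ∃ ℓ : L →ₗ[K] K, ℓ 1 = 1 := by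
    obtain ⟨g, hg⟩ := LinearMap.exists_leftInverse_of_injective (LinearMap.toSpanSingleton K L 1)
      (LinearMap.ker_toSpanSingleton K one_ne_zero)
    exact ⟨g, by simpa using DFunLike.congr_fun hg 1⟩
  have hfix : σ = algebraMap K L (ℓ σ) := by
    have h := congrArg ((TensorProduct.rid K L).toLinearMap ∘ₗ ℓ.lTensor L) hσ
    simpa [hℓ, Algebra.smul_def] using h
  obtain ⟨a, c, hc, hac⟩ := IsFractionRing.div_surjective A (ℓ σ)
  refine ⟨a, c, nonZeroDivisors.ne_zero hc, IsFractionRing.injective B L ?_⟩
  have hc' : algebraMap A K c ≠ 0 := IsFractionRing.to_map_ne_zero_of_mem_nonZeroDivisors hc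
  rw [map_mul, ← IsScalarTower.algebraMap_apply A B L, ← IsScalarTower.algebraMap_apply A B L,
    IsScalarTower.algebraMap_apply A K L, IsScalarTower.algebraMap_apply A K L, show algebraMap B L s = σ from rfl,
    hfix, ← map_mul, ← hac, mul_div_cancel₀ _ hc']

end FibreConstLib
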